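import Groth.Agent.L28.PtFun.Alg
import Groth.Prelude.Def_W4c1hilbchowincPtFun
import Mathlib.AlgebraicGeometry.ResidueField

/-!
Translation to pointwise functions on affine schemes.
-/

set_option autoImplicit false
universe u

open CategoryTheory AlgebraicGeometry W4c1hilbchowinc

namespace Groth.L28.PtFun

variable {A : Type u} [CommRing A]

local instance (p : Spec (CommRingCat.of A)) : p.asIdeal.IsPrime := p.isPrime

/-- residue field of a point of `Spec A` as residue field of a prime -/
noncomputable def toIdealRF (p : Spec (CommRingCat.of A)) :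
    (Spec (CommRingCat.of A)).residueField p ⟶ CommRingCat.of p.asIdeal.ResidueField :=
  (Scheme.Spec.residueFieldIso (CommRingCat.of A) p).hom

lemma toIdealRF_injective (p : Spec (CommRingCat.of A)) : Function.Injective (toIdealRF p) :=
  RingHom.injective (toIdealRF p).hom

lemma toIdealRF_evaluation (p : Spec (CommRingCat.of A)) (a : Γ(Spec (CommRingCat.of A), ⊤)) :
    toIdealRF p ((Spec (CommRingCat.of A)).Γevaluation p a) =
      algebraMap A p.asIdeal.ResidueField ((Scheme.ΓSpecIso (CommRingCat.of A)).hom a) := by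
  have h := congrArg (fun k => k ≫ (Scheme.Spec.residueFieldIso (CommRingCat.of A) p).hom)
    (Scheme.Spec.algebraMap_residueFieldIso_inv (CommRingCat.of A) p)
  simp only [Category.assoc, Iso.inv_hom_id, Category.comp_id] at h
  have h' := congrArg (fun k => (Scheme.ΓSpecIso (CommRingCat.of A)).hom ≫ k) h
  simp only [Iso.hom_inv_id_assoc] at h'
  exact (congr($(h').hom a)).symm

lemma toIdealRF_naturality {R : Type u} [CommRing R] (φ : A →+* R) (Q : Spec (CommRingCat.of R))
    (z : (Spec (CommRingCat.of A)).residueField ((Spec.map (CommRingCat.ofHom φ)) Q)) :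
    toIdealRF Q ((Spec.map (CommRingCat.ofHom φ)).residueFieldMap Q z) =
      Ideal.ResidueField.map (((Spec.map (CommRingCat.ofHom φ)) Q).asIdeal) Q.asIdeal φ rfl
        (toIdealRF ((Spec.map (CommRingCat.ofHom φ)) Q) z) := by
  let g := Spec.map (CommRingCat.ofHom φ)
  let ψ : (g Q).asIdeal.ResidueField →+* Q.asIdeal.ResidueField :=
    ((Scheme.Spec.residueFieldIso (CommRingCat.of A) (g Q)).inv ≫ g.residueFieldMap Q ≫ toIdealRF Q).hom
  have hψ : ψ = Ideal.ResidueField.map (g Q).asIdeal Q.asIdeal φ rfl := by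
    refine Ideal.ResidueField.ringHom_ext (RingHom.ext fun x => ?_)
    refine Eq.trans ?_ (Ideal.ResidueField.map_algebraMap (g Q).asIdeal Q.asIdeal φ rfl x).symm
    have h1 := congr($(Scheme.Spec.algebraMap_residueFieldIso_inv (CommRingCat.of A) (g Q)).hom x)
    show toIdealRF Q (g.residueFieldMap Q
      ((Scheme.Spec.residueFieldIso (CommRingCat.of A) (g Q)).inv (algebraMap A _ x))) = _
    refine (congrArg (fun w => toIdealRF Q (g.residueFieldMap Q w)) h1).trans ?_
    refine (congrArg (toIdealRF Q) (Scheme.Γevaluation_naturality_apply g Q _)).trans ?_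
    refine (toIdealRF_evaluation Q _).trans (congrArg _ ?_)
    have h2 := congr($(Scheme.ΓSpecIso_inv_naturality (CommRingCat.ofHom φ)).hom x)
    refine (congrArg (Scheme.ΓSpecIso (CommRingCat.of R)).hom h2.symm).trans ?_
    exact congr($((Scheme.ΓSpecIso (CommRingCat.of R)).inv_hom_id).hom (φ x))
  refine Eq.trans ?_ (congrArg (fun k : _ →+* _ => k (toIdealRF (g Q) z)) hψ)
  exact (congrArg (fun w => toIdealRF Q (g.residueFieldMap Q w))
    (congr($((Scheme.Spec.residueFieldIso (CommRingCat.of A) (g Q)).hom_inv_id).hom z))).symm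

theorem varies_of_variesAlongDVR {f : PtFun (Spec (CommRingCat.of A))} (hf : f.VariesAlongDVR) :
    Varies (fun p : PrimeSpectrum A => toIdealRF p (f p)) := by
  intro R _ _ _ φ
  obtain ⟨s, hs⟩ := hf R (Spec.map (CommRingCat.ofHom φ))
  refine ⟨(Scheme.ΓSpecIso (CommRingCat.of R)).hom s, fun Q p h => ?_⟩
  obtain rfl : p = (Spec.map (CommRingCat.ofHom φ)) Q := PrimeSpectrum.ext h
  have h1 : (Spec (CommRingCat.of R)).Γevaluation Q s =
      (Spec.map (CommRingCat.ofHom φ)).residueFieldMap Q (f ((Spec.map (CommRingCat.ofHom φ)) Q)) :=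
    congrFun hs Q
  exact ((toIdealRF_evaluation Q s).symm.trans (congrArg (toIdealRF Q) h1)).trans (toIdealRF_naturality φ Q _)

theorem existsUnique_section (A : Type u) [CommRing A] [_root_.IsReduced A] [IsNoetherianRing A]
    [IsIntegrallyClosed A] (f : PtFun (Spec (CommRingCat.of A))) (hf : f.VariesAlongDVR) :
    ∃! a : Γ(Spec (CommRingCat.of A), ⊤), PtFun.ofSection (Spec (CommRingCat.of A)) a = f := by
  obtain ⟨a, ha⟩ := exists_of_isIntegrallyClosed _ (varies_of_variesAlongDVR hf)
  refine ⟨(Scheme.ΓSpecIso (CommRingCat.of A)).inv a, funext fun p => toIdealRF_injective p ?_, fun b hb => ?_⟩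
  · erw [toIdealRF_evaluation]
    rw [← ha p]
    congr 1
    exact congr($((Scheme.ΓSpecIso (CommRingCat.of A)).inv_hom_id).hom a)
  · have : (Scheme.ΓSpecIso (CommRingCat.of A)).hom b = a := eq_of_values fun p => by
      refine Eq.trans ?_ (ha p).symm
      exact (toIdealRF_evaluation p b).symm.trans (congrArg (toIdealRF p) (congrFun hb p))
    rw [← this]
    exact (congr($((Scheme.ΓSpecIso (CommRingCat.of A)).hom_inv_id).hom b)).symm

end Groth.L28.PtFun
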