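import Groth.Agent.L01.NormalDomain
import Groth.Agent.L18.DominatingDVR
import Mathlib.RingTheory.LocalRing.ResidueField.Ideal
import Mathlib.RingTheory.Ideal.MinimalPrime.Basic
import Mathlib.RingTheory.Valuation.ValuationSubring
import Mathlib.RingTheory.Nilpotent.Lemmas
import Mathlib.RingTheory.Ideal.MinimalPrime.Localization

/-!
Families of residue field elements varying algebraically along discrete valuation rings.
-/

set_option autoImplicit false
universe u

namespace Groth.L28.PtFun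

open IsLocalRing

variable {A : Type u} [CommRing A]

/-- the family `g` is algebraic along every map to a discrete valuation ring -/
def Varies (g : ∀ p : PrimeSpectrum A, p.asIdeal.ResidueField) : Prop :=
  ∀ (R : Type u) [CommRing R] [IsDomain R] [IsDiscreteValuationRing R] (φ : A →+* R),
    ∃ r : R, ∀ (Q : PrimeSpectrum R) (p : PrimeSpectrum A) (h : p.asIdeal = Q.asIdeal.comap φ),
      algebraMap R Q.asIdeal.ResidueField r = Ideal.ResidueField.map p.asIdeal Q.asIdeal φ h (g p)

lemma eq_of_values [_root_.IsReduced A] {a b : A}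
    (h : ∀ p : PrimeSpectrum A, algebraMap A p.asIdeal.ResidueField a = algebraMap A _ b) : a = b := by
  rw [← sub_eq_zero]
  refine IsReduced.eq_zero _ ?_
  refine nilpotent_iff_mem_prime.mpr fun J hJ => ?_
  haveI := hJ
  have := h ⟨J, hJ⟩
  rwa [← sub_eq_zero, ← map_sub, Ideal.algebraMap_residueField_eq_zero] at this

theorem exists_of_domain [IsDomain A] [IsNoetherianRing A] [IsIntegrallyClosed A]
    (g : ∀ p : PrimeSpectrum A, p.asIdeal.ResidueField) (hg : Varies g) :
    ∃ a : A, ∀ p : PrimeSpectrum A, algebraMap A p.asIdeal.ResidueField a = g p := by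
  let η : PrimeSpectrum A := ⟨⊥, Ideal.isPrime_bot⟩
  obtain ⟨⟨c₀, b₀⟩, hcb₀⟩ := IsLocalization.surj (nonZeroDivisors (A ⧸ η.asIdeal)) (g η)
  obtain ⟨c, rfl⟩ := Ideal.Quotient.mk_surjective c₀
  obtain ⟨b, hb₀⟩ := Ideal.Quotient.mk_surjective (b₀ : A ⧸ η.asIdeal)
  have hb : b ≠ 0 := by
    rintro rfl
    exact nonZeroDivisors.coe_ne_zero b₀ (by rw [← hb₀, map_zero])
  have hcb : g η * algebraMap A η.asIdeal.ResidueField b = algebraMap A _ c := by
    rw [← hb₀] at hcb₀
    exact hcb₀
  have hbot : ∀ x : A, algebraMap A η.asIdeal.ResidueField x = 0 → x = 0 := fun x hx =>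
    (Ideal.mem_bot).1 (Ideal.algebraMap_residueField_eq_zero.1 hx)
  have hmem : c ∈ Ideal.span {b} := by
    by_contra hc
    have hne : Ideal.Quotient.mk (Ideal.span {b}) c ≠ 0 := mt Ideal.Quotient.eq_zero_iff_mem.1 hc
    obtain ⟨p, hp, hle⟩ := exists_le_isAssociatedPrime_of_isNoetherianRing A _ hne
    haveI := hp.isPrime
    haveI := Groth.L01.isDVR_localization_of_mem_associatedPrimes hb hp
    obtain ⟨r, hr⟩ := hg (Localization.AtPrime p) (algebraMap A _)
    have hinj : Function.Injective (algebraMap A (Localization.AtPrime p)) :=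
      IsLocalization.injective _ (Ideal.primeCompl_le_nonZeroDivisors p)
    let Q : PrimeSpectrum (Localization.AtPrime p) := ⟨⊥, Ideal.isPrime_bot⟩
    have hQ : η.asIdeal = Q.asIdeal.comap (algebraMap A (Localization.AtPrime p)) :=
      (Ideal.comap_bot_of_injective _ hinj).symm
    have h1 : algebraMap (Localization.AtPrime p) Q.asIdeal.ResidueField (r * algebraMap A _ b) =
        algebraMap (Localization.AtPrime p) Q.asIdeal.ResidueField (algebraMap A _ c) := by
      rw [map_mul, hr Q η hQ, ← Ideal.ResidueField.map_algebraMap _ _ _ hQ b, ← map_mul, hcb,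
        Ideal.ResidueField.map_algebraMap]
    rw [← sub_eq_zero, ← map_sub, Ideal.algebraMap_residueField_eq_zero, Ideal.mem_bot,
      sub_eq_zero] at h1
    obtain ⟨⟨c', s⟩, hs⟩ := IsLocalization.surj p.primeCompl r
    have h2 : c * (s : A) = c' * b := hinj (by rw [map_mul, map_mul, ← h1, ← hs]; ring)
    refine s.2 (hle ?_)
    rw [Submodule.mem_colon_singleton, Submodule.mem_bot]
    show (s : A) • Ideal.Quotient.mk (Ideal.span {b}) c = 0
    rw [Algebra.smul_def, Ideal.Quotient.algebraMap_eq, ← map_mul, Ideal.Quotient.eq_zero_iff_mem,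
      mul_comm, h2]
    exact Ideal.mul_mem_left _ _ (Ideal.mem_span_singleton_self b)
  obtain ⟨a, rfl⟩ := Ideal.mem_span_singleton'.1 hmem
  have hη : g η = algebraMap A _ a :=
    mul_right_cancel₀ (mt (hbot b) hb) (by rw [hcb, map_mul])
  refine ⟨a, fun q => ?_⟩
  by_cases hq : q.asIdeal = ⊥
  · obtain rfl : q = η := PrimeSpectrum.ext hq
    exact hη.symm
  have hinj' : Function.Injective (algebraMap A (Localization.AtPrime q.asIdeal)) :=
    IsLocalization.injective _ (Ideal.primeCompl_le_nonZeroDivisors q.asIdeal)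
  have hnz : maximalIdeal (Localization.AtPrime q.asIdeal) ≠ ⊥ := by
    intro h
    obtain ⟨x, hx, hx0⟩ := Submodule.exists_mem_ne_zero_of_ne_bot hq
    have hx' : algebraMap A (Localization.AtPrime q.asIdeal) x ∈ maximalIdeal _ :=
      (IsLocalization.AtPrime.to_map_mem_maximal_iff (Localization.AtPrime q.asIdeal) q.asIdeal x).2 hx
    rw [h, Ideal.mem_bot, map_eq_zero_iff _ hinj'] at hx'
    exact hx0 hx'
  let L := FractionRing (Localization.AtPrime q.asIdeal)
  have hgen : Subfield.closure (Set.range (algebraMap (Localization.AtPrime q.asIdeal) L) ∪ (∅ : Set L)) = ⊤ := by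
    rw [Set.union_empty, eq_top_iff]
    intro z _
    obtain ⟨x, y, -, rfl⟩ := IsFractionRing.div_surjective (A := Localization.AtPrime q.asIdeal) z
    exact div_mem (Subfield.subset_closure ⟨x, rfl⟩) (Subfield.subset_closure ⟨y, rfl⟩)
  obtain ⟨V, hV, hmemV, hlt⟩ := Groth.L18.exists_isDiscreteValuationRing_dominating Set.finite_empty hgen
    (by rw [(RingHom.injective_iff_ker_eq_bot _).1 (IsFractionRing.injective _ L)]; exact hnz.symm)
  let ι₀ : Localization.AtPrime q.asIdeal →+* V := (algebraMap _ L).codRestrict V.toSubring hmemV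
  let φ : A →+* V := ι₀.comp (algebraMap A _)
  have hφ : Function.Injective φ := fun x y h => hinj'
    (IsFractionRing.injective _ L (congrArg (fun v : V => (v : L)) h))
  obtain ⟨r, hr⟩ := hg V φ
  let Q₀ : PrimeSpectrum V := ⟨⊥, Ideal.isPrime_bot⟩
  let Q₁ : PrimeSpectrum V := ⟨maximalIdeal V, inferInstance⟩
  have h₀ : η.asIdeal = Q₀.asIdeal.comap φ := (Ideal.comap_bot_of_injective _ hφ).symm
  have h₁ : q.asIdeal = Q₁.asIdeal.comap φ := by
    ext x
    refine ⟨fun hx => ?_, fun hx => ?_⟩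
    · refine Ideal.mem_comap.2 ((ValuationSubring.valuation_lt_one_iff V (φ x)).2 (hlt _ ?_))
      exact (IsLocalization.AtPrime.to_map_mem_maximal_iff (Localization.AtPrime q.asIdeal) q.asIdeal x).2 hx
    · by_contra hxq
      exact hx ((IsLocalization.map_units (Localization.AtPrime q.asIdeal)
        (⟨x, hxq⟩ : q.asIdeal.primeCompl)).map ι₀)
  have hr' : r = φ a := by
    have := hr Q₀ η h₀
    rw [hη, Ideal.ResidueField.map_algebraMap, ← sub_eq_zero, ← map_sub,
      Ideal.algebraMap_residueField_eq_zero, Ideal.mem_bot, sub_eq_zero] at this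
    exact this
  apply (Ideal.ResidueField.map q.asIdeal Q₁.asIdeal φ h₁).injective
  rw [Ideal.ResidueField.map_algebraMap, ← hr', hr Q₁ q h₁]

theorem Varies.comp {B : Type u} [CommRing B] (θ : A →+* B)
    {g : ∀ p : PrimeSpectrum A, p.asIdeal.ResidueField} (hg : Varies g) :
    Varies (fun q : PrimeSpectrum B =>
      Ideal.ResidueField.map (q.asIdeal.comap θ) q.asIdeal θ rfl (g ⟨q.asIdeal.comap θ, Ideal.IsPrime.comap θ⟩)) := by
  intro R _ _ _ φ
  obtain ⟨r, hr⟩ := hg R (φ.comp θ)
  refine ⟨r, fun Q p h => ?_⟩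
  have hc : p.asIdeal.comap θ = Q.asIdeal.comap (φ.comp θ) := by rw [h, Ideal.comap_comap]
  rw [hr Q ⟨_, Ideal.IsPrime.comap θ⟩ hc]
  refine RingHom.congr_fun (?_ : Ideal.ResidueField.map (p.asIdeal.comap θ) Q.asIdeal (φ.comp θ) hc =
    (Ideal.ResidueField.map p.asIdeal Q.asIdeal φ h).comp
      (Ideal.ResidueField.map (p.asIdeal.comap θ) p.asIdeal θ rfl)) _
  refine Ideal.ResidueField.ringHom_ext (RingHom.ext fun x => ?_)
  simp only [RingHom.comp_apply, Ideal.ResidueField.map_algebraMap]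

section Product

variable [IsNoetherianRing A] [_root_.IsReduced A] [IsIntegrallyClosed A]

lemma eq_zero_of_forall_mem {a : A} (h : ∀ P ∈ minimalPrimes A, a ∈ P) : a = 0 := by
  have : a ∈ nilradical A := by
    rw [nilradical, Ideal.radical_eq_sInf, Submodule.mem_sInf]
    intro (J : Ideal A) hJ
    haveI : J.IsPrime := hJ.2
    obtain ⟨P, hP, hle⟩ := Ideal.exists_minimalPrimes_le (I := (⊥ : Ideal A)) (J := J) bot_le
    exact hle (h P hP)
  exact IsReduced.eq_zero a this

lemma mem_nzd_of_forall_notMem {a : A} (h : ∀ P ∈ minimalPrimes A, a ∉ P) : a ∈ nonZeroDivisors A := by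
  refine mem_nonZeroDivisors_iff_right.2 fun x hx => eq_zero_of_forall_mem fun P hP => ?_
  haveI : P.IsPrime := hP.1.1
  exact ((‹P.IsPrime›).mem_or_mem (hx ▸ P.zero_mem : x * a ∈ P)).resolve_right (h P hP)

/-- the idempotent cutting out one irreducible component -/
theorem exists_idempotent (P : Ideal A) (hP : P ∈ minimalPrimes A) :
    ∃ e : A, e * e = e ∧ e ∉ P ∧ (∀ a ∈ P, a * e = 0) ∧ ∀ P' ∈ minimalPrimes A, P' ≠ P → e ∈ P' := by
  haveI : P.IsPrime := hP.1.1
  have hfin := minimalPrimes.finite_of_isNoetherianRing A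
  let s := hfin.toFinset.erase P
  have hsub : ¬ (s.inf id ≤ P) := fun hle => by
    obtain ⟨P', hP', hle'⟩ := (Ideal.IsPrime.inf_le' ‹P.IsPrime›).1 hle
    obtain ⟨hne, hmin⟩ := Finset.mem_erase.1 hP'
    exact hne (le_antisymm hle' (hP.2 (hfin.mem_toFinset.1 hmin).1 hle'))
  obtain ⟨x, hx, hxP⟩ := SetLike.not_le_iff_exists.1 hsub
  rw [Submodule.mem_finsetInf] at hx
  have hx' : ∀ P' ∈ minimalPrimes A, P' ≠ P → x ∈ P' := fun P' h hne =>
    hx P' (Finset.mem_erase.2 ⟨hne, hfin.mem_toFinset.2 h⟩)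
  have hcov : ¬ ((P : Set A) ⊆ ⋃ P' ∈ (↑s : Set (Ideal A)), (P' : Set A)) := fun hle => by
    obtain ⟨P', hP', hle'⟩ := (Ideal.subset_union_prime (f := fun I : Ideal A => I) P P
      (fun i hi _ _ => (hfin.mem_toFinset.1 (Finset.mem_of_mem_erase hi)).1.1)).1 hle
    obtain ⟨hne, hmin⟩ := Finset.mem_erase.1 hP'
    have hmin' := hfin.mem_toFinset.1 hmin
    exact hne (le_antisymm (hmin'.2 hP.1 hle') hle')
  obtain ⟨y, hyP, hy⟩ := Set.not_subset.1 hcov
  have hy' : ∀ P' ∈ minimalPrimes A, P' ≠ P → y ∉ P' := fun P' h hne hm =>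
    hy (Set.mem_biUnion (Finset.mem_erase.2 ⟨hne, hfin.mem_toFinset.2 h⟩) hm)
  have hxy : x * y = 0 := eq_zero_of_forall_mem fun P' h => by
    haveI : P'.IsPrime := h.1.1
    by_cases hne : P' = P
    · exact hne ▸ P.mul_mem_left _ hyP
    · exact P'.mul_mem_right _ (hx' P' h hne)
  have hnz : x + y ∈ nonZeroDivisors A := mem_nzd_of_forall_notMem fun P' h hm => by
    by_cases hne : P' = P
    · subst hne
      exact hxP ((P'.add_mem_iff_left hyP).1 hm)
    · exact hy' P' h hne ((P'.add_mem_iff_right (hx' P' h hne)).1 hm)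
  let z : FractionRing A := IsLocalization.mk' _ x ⟨x + y, hnz⟩
  haveI : Nontrivial A := nontrivial_of_ne x 0 fun h => hxP (h ▸ P.zero_mem)
  have hzint : IsIntegral A z := by
    refine ⟨Polynomial.X ^ 2 - Polynomial.X,
      Polynomial.monic_X_pow_sub (by rw [Polynomial.degree_X]; norm_num), ?_⟩
    rw [Polynomial.eval₂_sub, Polynomial.eval₂_pow, Polynomial.eval₂_X, sub_eq_zero, sq,
      ← IsLocalization.mk'_mul, IsLocalization.mk'_eq_iff_eq, Submonoid.coe_mul]
    exact congrArg _ (by linear_combination -(x + y) * hxy)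
  obtain ⟨e, he⟩ := IsIntegrallyClosed.isIntegral_iff.1 hzint
  have hexy : e * (x + y) = x := by
    apply IsFractionRing.injective A (FractionRing A)
    rw [map_mul, he, IsLocalization.mk'_spec]
  have hin : ∀ P' ∈ minimalPrimes A, P' ≠ P → e ∈ P' := fun P' h hne => by
    haveI : P'.IsPrime := h.1.1
    have : e * (x + y) ∈ P' := hexy.symm ▸ hx' P' h hne
    exact ((‹P'.IsPrime›).mem_or_mem this).resolve_right fun hm =>
      hy' P' h hne ((P'.add_mem_iff_right (hx' P' h hne)).1 hm)
  refine ⟨e, ?_, fun he' => hxP (hexy ▸ P.mul_mem_right _ he'), fun a ha => ?_, hin⟩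
  · apply IsFractionRing.injective A (FractionRing A)
    rw [map_mul, he]
    rw [← IsLocalization.mk'_mul, IsLocalization.mk'_eq_iff_eq, Submonoid.coe_mul]
    exact congrArg _ (by linear_combination -(x + y) * hxy)
  · exact eq_zero_of_forall_mem fun P' h => by
      by_cases hne : P' = P
      · exact hne ▸ P.mul_mem_right _ ha
      · exact P'.mul_mem_left _ (hin P' h hne)

theorem isIntegrallyClosed_quotient (P : Ideal A) (hP : P ∈ minimalPrimes A) :
    haveI : P.IsPrime := hP.1.1
    IsIntegrallyClosed (A ⧸ P) := by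
  haveI hPp : P.IsPrime := hP.1.1
  obtain ⟨e, hee, heP, hkill, hin⟩ := exists_idempotent P hP
  rw [isIntegrallyClosed_iff (FractionRing (A ⧸ P))]
  intro w hw
  obtain ⟨c₀, b₀, hb₀, rfl⟩ := IsFractionRing.div_surjective (A := A ⧸ P) w
  obtain ⟨c, rfl⟩ := Ideal.Quotient.mk_surjective c₀
  obtain ⟨b, rfl⟩ := Ideal.Quotient.mk_surjective b₀
  have hbP : b ∉ P := fun h => nonZeroDivisors.ne_zero hb₀ (Ideal.Quotient.eq_zero_iff_mem.2 h)
  have he1 : Ideal.Quotient.mk P e = 1 := by
    rw [← map_one (Ideal.Quotient.mk P), Ideal.Quotient.mk_eq_mk_iff_sub_mem]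
    refine ((hPp.mem_or_mem (x := e) (y := e - 1) ?_).resolve_left heP)
    rw [show e * (e - 1) = 0 by linear_combination hee]
    exact P.zero_mem
  let b' := b * e + (1 - e)
  have hb' : b' ∈ nonZeroDivisors A := mem_nzd_of_forall_notMem fun P' h hm => by
    haveI : P'.IsPrime := h.1.1
    by_cases hne : P' = P
    · subst hne
      apply hbP
      rw [← Ideal.Quotient.eq_zero_iff_mem] at hm ⊢
      simpa [b', map_add, map_sub, map_mul, he1] using hm
    · have he' := hin P' h hne
      rw [P'.add_mem_iff_right (P'.mul_mem_left _ he'), ← P'.neg_mem_iff, neg_sub] at hm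
      exact h.1.1.ne_top ((Ideal.eq_top_iff_one P').2 (by simpa using P'.sub_mem he' hm))
  let z : FractionRing A := IsLocalization.mk' _ (c * e) ⟨b', hb'⟩
  let π : FractionRing A →+* FractionRing (A ⧸ P) := IsLocalization.lift
    (M := nonZeroDivisors A) (g := (algebraMap (A ⧸ P) (FractionRing (A ⧸ P))).comp (Ideal.Quotient.mk P))
    (fun s => IsUnit.mk0 _ fun h0 => by
      rw [RingHom.comp_apply, map_eq_zero_iff _ (IsFractionRing.injective _ _),
        Ideal.Quotient.eq_zero_iff_mem] at h0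
      exact Set.disjoint_left.1 (Ideal.disjoint_nonZeroDivisors_of_mem_minimalPrimes hP) h0 s.2)
  have hπ : ∀ a : A, π (algebraMap A _ a) = algebraMap (A ⧸ P) _ (Ideal.Quotient.mk P a) :=
    fun a => IsLocalization.lift_eq _ a
  have hzb : z * algebraMap A _ b' = algebraMap A _ (c * e) :=
    IsLocalization.mk'_spec (FractionRing A) (c * e) (⟨b', hb'⟩ : nonZeroDivisors A)
  have hπz : π z = algebraMap (A ⧸ P) (FractionRing (A ⧸ P)) (Ideal.Quotient.mk P c) /
      algebraMap (A ⧸ P) _ (Ideal.Quotient.mk P b) := by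
    have := congrArg π hzb
    rw [map_mul, hπ, hπ, map_mul, he1, mul_one] at this
    rw [eq_div_iff ((map_ne_zero_iff _ (IsFractionRing.injective _ _)).2
      (mt Ideal.Quotient.eq_zero_iff_mem.1 hbP)), ← this]
    simp [b', he1]
  have hez : algebraMap A _ e * z = z := by
    rw [IsLocalization.mul_mk'_eq_mk'_of_mul]
    congr 1
    linear_combination c * hee
  obtain ⟨p₀, hp₀, hp₀'⟩ := hw
  obtain ⟨p, hp, -, hpm⟩ := Polynomial.lifts_and_degree_eq_and_monic
    (f := Ideal.Quotient.mk P) (Polynomial.map_surjective _ Ideal.Quotient.mk_surjective p₀) hp₀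
  have hzint : IsIntegral A z := by
    refine ⟨Polynomial.X * p, Polynomial.monic_X.mul hpm, ?_⟩
    rw [Polynomial.eval₂_mul, Polynomial.eval₂_X]
    have h0 : π (Polynomial.eval₂ (algebraMap A _) z p) = 0 := by
      rw [Polynomial.hom_eval₂, hπz,
        show π.comp (algebraMap A _) = (algebraMap (A ⧸ P) _).comp (Ideal.Quotient.mk P) from
          RingHom.ext hπ, ← Polynomial.eval₂_map, hp, hp₀']
    obtain ⟨⟨u, s⟩, hus⟩ := IsLocalization.surj (nonZeroDivisors A)
      (Polynomial.eval₂ (algebraMap A (FractionRing A)) z p)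
    have huP : u ∈ P := by
      have := congrArg π hus
      rw [map_mul, h0, zero_mul, hπ, eq_comm, map_eq_zero_iff _ (IsFractionRing.injective _ _),
        Ideal.Quotient.eq_zero_iff_mem] at this
      exact this
    have : algebraMap A (FractionRing A) e * Polynomial.eval₂ (algebraMap A _) z p = 0 := by
      refine ((IsLocalization.map_units (FractionRing A) s).mul_left_eq_zero).1 ?_
      rw [mul_assoc, hus, ← map_mul, mul_comm, hkill u huP, map_zero]
    calc z * Polynomial.eval₂ (algebraMap A (FractionRing A)) z p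
        = algebraMap A (FractionRing A) e * z * Polynomial.eval₂ (algebraMap A _) z p := by rw [hez]
      _ = z * (algebraMap A (FractionRing A) e * Polynomial.eval₂ (algebraMap A _) z p) := by ring
      _ = 0 := by rw [this, mul_zero]
  obtain ⟨a, ha⟩ := IsIntegrallyClosed.isIntegral_iff.1 hzint
  exact ⟨Ideal.Quotient.mk P a, by rw [← hπ, ha, hπz]⟩

theorem exists_of_isIntegrallyClosed
    (g : ∀ p : PrimeSpectrum A, p.asIdeal.ResidueField) (hg : Varies g) :
    ∃ a : A, ∀ p : PrimeSpectrum A, algebraMap A p.asIdeal.ResidueField a = g p := by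
  classical
  have hfin := minimalPrimes.finite_of_isNoetherianRing A
  choose e hee heP _ hin using fun P : {P // P ∈ minimalPrimes A} => exists_idempotent P.1 P.2
  have hd : ∀ P : {P // P ∈ minimalPrimes A}, ∃ a : A, ∀ q : PrimeSpectrum A, P.1 ≤ q.asIdeal →
      algebraMap A q.asIdeal.ResidueField a = g q := by
    rintro ⟨P, hP⟩
    haveI : P.IsPrime := hP.1.1
    haveI := isIntegrallyClosed_quotient P hP
    obtain ⟨a₀, ha₀⟩ := exists_of_domain _ (hg.comp (Ideal.Quotient.mk P))
    obtain ⟨a, rfl⟩ := Ideal.Quotient.mk_surjective a₀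
    refine ⟨a, fun q hq => ?_⟩
    obtain ⟨q', rfl⟩ : ∃ q' : PrimeSpectrum (A ⧸ P),
        (⟨q'.asIdeal.comap (Ideal.Quotient.mk P), Ideal.IsPrime.comap _⟩ : PrimeSpectrum A) = q :=
      ⟨⟨q.asIdeal.map (Ideal.Quotient.mk P),
          Ideal.map_isPrime_of_surjective Ideal.Quotient.mk_surjective (by rwa [Ideal.mk_ker])⟩,
        PrimeSpectrum.ext (by
          show (q.asIdeal.map (Ideal.Quotient.mk P)).comap _ = q.asIdeal
          rw [Ideal.comap_map_of_surjective _ Ideal.Quotient.mk_surjective, ← RingHom.ker_eq_comap_bot,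
            Ideal.mk_ker, sup_eq_left.2 hq])⟩
    apply (Ideal.ResidueField.map (q'.asIdeal.comap (Ideal.Quotient.mk P)) q'.asIdeal
      (Ideal.Quotient.mk P) rfl).injective
    rw [Ideal.ResidueField.map_algebraMap]
    exact ha₀ q'
  choose a ha using hd
  haveI := hfin.fintype
  refine ⟨∑ P : {P // P ∈ minimalPrimes A}, e P * a P, fun q => ?_⟩
  obtain ⟨P, hP, hle⟩ := Ideal.exists_minimalPrimes_le (I := (⊥ : Ideal A)) (J := q.asIdeal) bot_le
  haveI : P.IsPrime := hP.1.1
  have h1 : algebraMap A q.asIdeal.ResidueField (e ⟨P, hP⟩) = 1 := by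
    rw [← map_one (algebraMap A q.asIdeal.ResidueField), ← sub_eq_zero, ← map_sub,
      Ideal.algebraMap_residueField_eq_zero]
    apply hle
    refine ((‹P.IsPrime›).mem_or_mem (x := e ⟨P, hP⟩) (y := e ⟨P, hP⟩ - 1) ?_).resolve_left (heP ⟨P, hP⟩)
    rw [show e ⟨P, hP⟩ * (e ⟨P, hP⟩ - 1) = 0 by linear_combination hee ⟨P, hP⟩]
    exact P.zero_mem
  rw [map_sum, Finset.sum_eq_single (⟨P, hP⟩ : {P // P ∈ minimalPrimes A})]
  · rw [map_mul, h1, one_mul, ha _ q hle]
  · intro P' _ hne
    rw [map_mul, Ideal.algebraMap_residueField_eq_zero.2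
      (hle (hin P' P hP fun h => hne (Subtype.ext h.symm))), zero_mul]
  · intro h; exact absurd (Finset.mem_univ _) h

end Product

end Groth.L28.PtFun
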